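import Cfsg.Agent.H592.EP.McLCnt
import Cfsg.Agent.H41.McLTwo.Ords
import Cfsg.Agent.H892.EP.Rows

/-!
# S4929, the row of `McL` (helper592)

The irreducible characters of degrees 22, 252, 4500 on the 24 classes; their sums over the `p`-regular elements do not
vanish for `p = 3, 5` (22), `p = 11` (252), `p = 7` (4500).
-/

set_option autoImplicit false
set_option maxRecDepth 100000

namespace Cfsg.Agent.H592.EP.McL

open Cfsg Equiv Cfsg.Agent.H359.CT Cfsg.Agent.H359.CT.McL Cfsg.Agent.H904.McLCent Cfsg.Agent.McLType.X275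
  Cfsg.Agent.McLType.Gens Cfsg.Agent.SporadicA.PermTab Cfsg.Agent.Characters.Core Cfsg.Agent.Characters.Brauer
  Cfsg.Agent.H447.CTab Cfsg.Agent.H892.EP
open Cfsg.Agent.H41.McLTwo.Ords (os order_xs)
open scoped ComplexConjugate

/-- the class list -/
noncomputable def T : ClassTab ↥K0 24 where
  x := xs
  c := cc
  cover := classes.1
  inj := xs_inj
  card := classes.2

theorem gen_inv {φ : ↥K0 → ℂ} (h : IsGeneralizedCharacter ↥K0 φ) (g : ↥K0) : φ g⁻¹ = conj (φ g) := by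
  obtain ⟨α, β, hα, hβ, rfl⟩ := h
  rw [Pi.sub_apply, Pi.sub_apply, map_sub, isCharacter_apply_inv hα, isCharacter_apply_inv hβ]

theorem GC_of_gs {φ : ↥K0 → ℂ} (hφ : IsGeneralizedCharacter ↥K0 φ) {v : Fin 18 → ℤ} (h : ∀ i, φ (gs i) = v i) :
    GC T rc v := by
  refine ⟨φ, hφ, fun j => ?_⟩
  show φ (xs j) = _
  unfold xs
  split_ifs
  · exact h _
  · rw [gen_inv hφ, h, map_intCast]

/-! ### the values -/

def vf : Fin 18 → ℤ := ![275, 35, 5, 14, 7, 0, 5, 5, 2, 2, 1, 2, 0, 0, 1, 0, 0, 0]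
def va : Fin 18 → ℤ := ![22, 6, -5, 4, 2, -3, 2, 3, 0, 1, 0, 1, 1, 0, -1, -1, 0, -2]
def vb : Fin 18 → ℤ := ![252, 28, 9, 9, 4, 2, 2, 1, 1, 0, 0, 0, -2, -1, 1, 0, -1, 1]
def vD : Fin 18 → ℤ := ![15400, 280, 10, 37, 20, 0, 5, 10, 1, 0, 2, 1, 0, 0, 2, 0, 0, 0]
def vE : Fin 18 → ℤ := ![30800, 560, 20, 74, 24, 0, 10, 20, 2, 0, 0, 2, 0, 0, 0, 0, 0, 0]
def vL2a : Fin 18 → ℤ := ![231, 7, 15, 6, -1, 6, 1, 7, -2, 0, -1, 0, 2, 0, -1, 0, 0, 2]
def vL3a : Fin 18 → ℤ := ![1540, -28, -26, 10, -4, -10, 0, 14, 2, 0, 0, -2, 2, 0, 2, 0, -1, -1]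
def vL2b : Fin 18 → ℤ := ![31626, 266, 36, 36, -6, 1, 1, -4, -4, 0, -2, 0, 1, 1, 0, 0, 1, 1]
def vz : Fin 18 → ℤ := ![4500, 20, 45, -9, 4, 0, 0, 5, -1, -1, 0, 0, 0, 1, 1, -1, 0, 0]

theorem num_f : ∀ i : Fin 18, (((fpt.getD i []).getD 0 0 : ℕ) : ℤ) = vf i := by decide +kernel

theorem num_a : ∀ i : Fin 18, 30 * va i = 112 + 2 * (vf i - 1) - (cA (XT i) : ℤ) := by decide +kernel

theorem num_E : ∀ i : Fin 18, (cE (XT i) : ℤ) = vE i := by decide +kernel

theorem num_D : ∀ i : Fin 18, ((cE (XT i) + cS (XT i) : ℕ) : ℤ) = 2 * vD i := by decide +kernel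

theorem num_b : ∀ i : Fin 18, vf i - 1 - va i = vb i := by decide +kernel

theorem fix_gs (i : Fin 18) : (Nat.card (MulAction.fixedBy (Fin 275) (gs i)) : ℤ) = vf i := by
  rw [card_fixedBy]
  have h := FP_gs i 0
  have h1 : EX.getD (0 : Fin 12) 0 = 1 := rfl
  rw [h1] at h
  rw [h]
  exact num_f i

theorem gc_f : GC T rc vf :=
  GC_of_gs (isGeneralizedCharacter_of_isCharacter (S0157.isCharacter_fixedBy (Fin 275))) fun i => by
    have h := fix_gs i
    have h1 : ((Nat.card (MulAction.fixedBy (Fin 275) (gs i)) : ℤ) : ℂ) = (vf i : ℂ) := by rw [h]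
    rw [← h1]
    push_cast
    rfl

theorem gc_a : GC T rc va :=
  GC_of_gs (isGeneralizedCharacter_of_isCharacter (isCharacter_srg (X := Fin 275) adj hinv adj_symm adj_irr hk hlam hmu
    (θ := 2) (τ := -28) (by norm_num) (by norm_num) (by norm_num))) fun i => by
    have h : ((Nat.card (MulAction.fixedBy (Fin 275) (gs i)) : ℤ) : ℂ) = ((vf i : ℤ) : ℂ) := by rw [fix_gs i]
    have h2 := card_adj (gs_spec i)
    have h3 : ((30 * va i : ℤ) : ℂ) = ((112 + 2 * (vf i - 1) - (cA (XT i) : ℤ) : ℤ) : ℂ) := by rw [num_a]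
    push_cast at h h3
    show ((112 : ℕ) + ((2 : ℤ) : ℂ) * ((Nat.card (MulAction.fixedBy (Fin 275) (gs i)) : ℂ) - 1) -
      ((Finset.univ.filter fun x : Fin 275 => adj x (gs i • x)).card : ℂ)) / (((2 : ℤ) : ℂ) - ((-28 : ℤ) : ℂ)) = _
    rw [h, h2, div_eq_iff (by norm_num)]
    push_cast
    rw [← h3]
    ring

theorem gc_b : GC T rc vb := ((gc_f.sub GC.one).sub gc_a).congr num_b

theorem gc_E : GC T rc vE :=
  GC_of_gs (isGeneralizedCharacter_of_isCharacter (S0157.isCharacter_fixedBy X2)) fun i => by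
    have h1 : ((cE (XT i) : ℤ) : ℂ) = (vE i : ℂ) := by rw [num_E]
    rw [← h1, ← card_fixedBy_X2 (gs_spec i)]
    push_cast
    rfl

theorem gc_D : GC T rc vD :=
  GC_of_gs (isGeneralizedCharacter_of_isCharacter isCharacter_edges) fun i => by
    show ∑ p : X2, Pm p (gs i • p) = _
    rw [edges_apply (gs_spec i)]
    have h1 : ((((cE (XT i) + cS (XT i) : ℕ) : ℤ)) : ℂ) = ((2 * vD i : ℤ) : ℂ) := by rw [num_D]
    have h2 : ((cE (XT i) + cS (XT i) : ℕ) : ℂ) = 2 * (vD i : ℂ) := by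
      rw [← Int.cast_natCast, h1]
      push_cast
      rfl
    rw [h2]
    ring

theorem gc_L2a : GC T rc vL2a := gc_a.lambda2 pw2 power2 (by decide +kernel)

theorem gc_L3a : GC T rc vL3a := gc_a.lambda3 pw2 pw3 power2 power3 (by decide +kernel)

theorem gc_L2b : GC T rc vL2b := gc_b.lambda2 pw2 power2 (by decide +kernel)

theorem gc_z : GC T rc vz :=
  ((((((((GC.const (-1)).sub (gc_b.add gc_b)).add gc_D).add gc_E).sub gc_L2a).add gc_L3a).sub
    ((gc_a.mul gc_L2a).add (gc_a.mul gc_b))).add (gc_L2b.sub (gc_b.mul gc_b))).congr (by decide +kernel)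

theorem xs_zero : xs 0 = 1 := by
  have h : gs 0 = 1 := by
    refine Subtype.ext (Equiv.ext fun j => Fin.ext ?_)
    rw [gs_spec]
    exact Nat.eq_of_beq_eq_true ((allB_iff (fun j => Nat.beq (lk (XT 0) j) j) 275).1 (by decide +kernel) j j.2)
  exact h

theorem exists_irr_of_norm {v : Fin 18 → ℤ} (hv : GC T rc v)
    (hn : ∑ i : Fin 24, ((898128000 / cc i : ℕ) : ℤ) * (v (rc i) * v (rc i)) = 898128000) (hpos : 0 < v 0) :
    ∃ χ : IrrCharacter ↥K0, (∀ i, (χ : ↥K0 → ℂ) (xs i) = v (rc i)) ∧ charDegree (χ : ↥K0 → ℂ) = (v 0).toNat := by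
  classical
  have := Fintype.ofFinite ↥K0
  have : Finite (IrrCharacter ↥K0) := finite_irr
  have := Fintype.ofFinite (IrrCharacter ↥K0)
  obtain ⟨φ, h1, h2⟩ := hv
  have h3 : classInner φ φ = ((1 : ℤ) : ℂ) := Table.inner_int h1 h1 h2 h2 (by
    rw [card_K0, one_mul]
    exact hn)
  rw [inner_sum_mu h1 h1] at h3
  obtain ⟨χ, h4, h5⟩ := one_of_sum_sq (Int.cast_injective h3)
  have h6 : ∀ g, φ g = mu h1 χ * (χ : ↥K0 → ℂ) g := by
    intro g
    rw [apply_mu h1 g, Finset.sum_eq_single χ]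
    · intro ψ _ hψ
      rw [h5 ψ hψ, Int.cast_zero, zero_mul]
    · intro h
      exact absurd (Finset.mem_univ _) h
  have hv0 : φ 1 = v 0 := by
    have := h2 0
    rw [show T.x 0 = 1 from xs_zero] at this
    exact this
  obtain ⟨d, hd, hd'⟩ := isIrr_apply_one χ.2
  rcases h4 with h4 | h4
  · rw [h4, Int.cast_one] at h6
    simp only [one_mul] at h6
    refine ⟨χ, fun i => ?_, ?_⟩
    · rw [← h6]
      exact h2 i
    · apply Table.degree_eq
      rw [← h6, hv0]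
  · exfalso
    rw [h6, h4, hd'] at hv0
    have h7 : (-(d : ℤ) : ℤ) = v 0 := by
      have : (((-(d : ℤ) : ℤ)) : ℂ) = (v 0 : ℂ) := by
        rw [← hv0]
        push_cast
        ring
      exact_mod_cast this
    omega

/-- the sum over the regular elements -/
theorem mem_block {p : ℕ} [Fact p.Prime] {M : Ideal AlgInt} (hM : IsPModular p M) {χ : IrrCharacter ↥K0}
    {v : Fin 18 → ℤ} (h : ∀ i, (χ : ↥K0 → ℂ) (xs i) = v (rc i))
    (hne : ∑ i : Fin 24, ((898128000 / cc i : ℕ) : ℤ) * (if p ∣ os i then 0 else v (rc i)) ≠ 0) :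
    χ ∈ principalBlock M ↥K0 := by
  classical
  have := Fintype.ofFinite ↥K0
  refine mem_of_regSum hM χ ?_
  have hcl := isCharacter_isClassFunction (isIrr_isCharacter χ.2)
  have h1 : ∑ᶠ x ∈ {x : ↥K0 | ¬ p ∣ orderOf x}, (χ : ↥K0 → ℂ) x =
      ∑ g : ↥K0, if p ∣ orderOf g then 0 else (χ : ↥K0 → ℂ) g := by
    rw [finsum_mem_eq_finite_toFinset_sum _ (Set.toFinite _)]
    have h2 : ∀ g : ↥K0, (if p ∣ orderOf g then 0 else (χ : ↥K0 → ℂ) g) =
        if ¬ p ∣ orderOf g then (χ : ↥K0 → ℂ) g else 0 := by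
      intro g
      split_ifs <;> simp_all
    rw [Finset.sum_congr rfl fun g _ => h2 g, ← Finset.sum_filter]
    refine Finset.sum_congr ?_ fun _ _ => rfl
    ext x
    simp
  rw [h1, T.sum_eq (f := fun g => if p ∣ orderOf g then 0 else (χ : ↥K0 → ℂ) g) fun g => ?_]
  · have h3 : ∀ i : Fin 24, ((Nat.card ↥K0 / T.c i : ℕ) : ℂ) *
        (if p ∣ orderOf (T.x i) then 0 else (χ : ↥K0 → ℂ) (T.x i)) =
        ((((898128000 / cc i : ℕ) : ℤ) * (if p ∣ os i then 0 else v (rc i)) : ℤ) : ℂ) := by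
      intro i
      have e1 : orderOf (T.x i) = os i := order_xs i
      have e2 : (χ : ↥K0 → ℂ) (T.x i) = v (rc i) := h i
      rw [e1, e2, card_K0]
      show ((898128000 / cc i : ℕ) : ℂ) * _ = _
      split_ifs <;> push_cast <;> rfl
    rw [Finset.sum_congr rfl fun i _ => h3 i, ← Int.cast_sum]
    exact_mod_cast hne
  · have e1 : orderOf (T.x (T.cl g)) = orderOf g := by
      obtain ⟨c, hc⟩ := isConj_iff.1 (T.isConj_cl g)
      have e := (MulAut.conj c).orderOf_eq (T.x (T.cl g))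
      rw [MulAut.conj_apply, hc] at e
      exact e.symm
    show (if p ∣ orderOf g then 0 else (χ : ↥K0 → ℂ) g) = if p ∣ orderOf (T.x (T.cl g)) then 0 else _
    rw [e1, ← T.apply hcl g]

theorem evAt_of_gc {p : ℕ} [Fact p.Prime] {v : Fin 18 → ℤ} (hv : GC T rc v)
    (hn : ∑ i : Fin 24, ((898128000 / cc i : ℕ) : ℤ) * (v (rc i) * v (rc i)) = 898128000) (hpos : 0 < v 0)
    (h2 : 2 ∣ (v 0).toNat)
    (hne : ∑ i : Fin 24, ((898128000 / cc i : ℕ) : ℤ) * (if p ∣ os i then 0 else v (rc i)) ≠ 0) : EvAt p ↥K0 := by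
  obtain ⟨χ, h, hd⟩ := exists_irr_of_norm hv hn hpos
  intro M hM
  exact ⟨χ, mem_block hM h hne, by rw [hd]; exact h2⟩

theorem prime_cases {p : ℕ} (hp : p.Prime) (h : p ∣ 898128000) : p = 2 ∨ p = 3 ∨ p = 5 ∨ p = 7 ∨ p = 11 := by
  rw [show 898128000 = 2 ^ 7 * 3 ^ 6 * 5 ^ 3 * 7 * 11 by norm_num, hp.dvd_mul, hp.dvd_mul, hp.dvd_mul,
    hp.dvd_mul] at h
  have key : ∀ {q : ℕ}, q.Prime → p ∣ q → p = q := fun hq h1 => (Nat.prime_dvd_prime_iff_eq hp hq).1 h1
  rcases h with (((h | h) | h) | h) | h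
  · exact Or.inl (key (by norm_num) (hp.dvd_of_dvd_pow h))
  · exact Or.inr (Or.inl (key (by norm_num) (hp.dvd_of_dvd_pow h)))
  · exact Or.inr (Or.inr (Or.inl (key (by norm_num) (hp.dvd_of_dvd_pow h))))
  · exact Or.inr (Or.inr (Or.inr (Or.inl (key (by norm_num) h))))
  · exact Or.inr (Or.inr (Or.inr (Or.inr (key (by norm_num) h))))

theorem ev : Ev ↥K0 := by
  intro p hp hp2 hd
  have hpF : Fact p.Prime := ⟨hp⟩
  rw [card_K0] at hd
  rcases prime_cases hp hd with rfl | rfl | rfl | rfl | rfl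
  · exact absurd rfl hp2
  · exact evAt_of_gc gc_a (by decide +kernel) (by decide +kernel) (by decide +kernel) (by decide +kernel)
  · exact evAt_of_gc gc_a (by decide +kernel) (by decide +kernel) (by decide +kernel) (by decide +kernel)
  · exact evAt_of_gc gc_z (by decide +kernel) (by decide +kernel) (by decide +kernel) (by decide +kernel)
  · exact evAt_of_gc gc_b (by decide +kernel) (by decide +kernel) (by decide +kernel) (by decide +kernel)

end Cfsg.Agent.H592.EP.McL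

namespace Cfsg.Agent.H592.EP

open Cfsg Cfsg.Agent.H892.EP Cfsg.Agent.McLType.Gens Cfsg.Agent.H359.CT.McL

/-- **The row of `McL`.** -/
theorem row_mcl : SpRow fun K => Spor.IsoMcL K := by
  intro K _ _ _ h
  obtain ⟨e⟩ := h
  obtain ⟨f⟩ := iso_K0
  exact McL.ev.tr (f.trans e.symm)

end Cfsg.Agent.H592.EP
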