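import Cfsg.Agent.H592.EP.NormSub
import Cfsg.Agent.H592.EP.FiChk
import Cfsg.Agent.H52.GowFi23
import Cfsg.Agent.H30.GraphFi24A

/-!
# S4929, `Fi₂₃` (helper592): the transpositions of `Fi₂₄` not commuting with `l`
-/

set_option autoImplicit false
set_option maxRecDepth 100000

namespace Cfsg.Agent.H592.EP.Fi

open Cfsg Equiv
open Cfsg.Agent.Lib.PermNet Cfsg.Agent.Lib.PermNetPt Cfsg.Agent.Lib.PermNetOrbit
open Cfsg.Agent.Fischer.Fi24RepDef Cfsg.Agent.Fischer.Fi24Rep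
open Cfsg.Agent.Fischer.Fi24RepOrb (UG H orbR tbR)
open Cfsg.Agent.Fischer.Fi24RepOrbData (UR)
open Cfsg.Agent.R08 Cfsg.Agent.R08.FiTwentyFour
open Cfsg.Agent.KFacts.FiTF.Pts Cfsg.Agent.KFacts.FiTF.FixMask
open Cfsg.Spor (Fi24 Fi23)
open Cfsg.Spor.Fi24 (Gen)

local notation "L" => Cfsg.Agent.R08.FiTwentyFour.L
local notation "Lt" => ((Cfsg.Agent.R08.FiTwentyFour.L : Set Cfsg.Spor.Fi24) : Type)

/-- the action of `Fi24` on the transpositions -/
noncomputable def cj : Fi24 →* Perm (L : Set Fi24) where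
  toFun g :=
    { toFun := fun t => ⟨g * t.1 * g⁻¹, FiTwentyFour.conj t.2 g⟩
      invFun := fun t => ⟨g⁻¹ * t.1 * g, by
        have := FiTwentyFour.conj t.2 g⁻¹
        rwa [inv_inv] at this⟩
      left_inv := fun t => Subtype.ext (by
        show g⁻¹ * (g * t.1 * g⁻¹) * g = t.1
        group)
      right_inv := fun t => Subtype.ext (by
        show g * (g⁻¹ * t.1 * g) * g⁻¹ = t.1
        group) }
  map_one' := Equiv.ext fun t => Subtype.ext (by
    show 1 * t.1 * 1⁻¹ = t.1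
    group)
  map_mul' g h := Equiv.ext fun t => Subtype.ext (by
    show g * h * t.1 * (g * h)⁻¹ = g * (h * t.1 * h⁻¹) * g⁻¹
    group)

theorem cj_coe (g : Fi24) (t : (L : Set Fi24)) : (cj g t : Fi24) = g * t * g⁻¹ := rfl

theorem ll : gen .l * gen .l = 1 := FiTwentyFour.sq (gen_mem_L .l)

/-- conjugation with `l` -/
noncomputable def lam : Perm (L : Set Fi24) := cj (gen .l)

theorem lam_sq : lam * lam = 1 := by
  unfold lam
  rw [← map_mul, ll, map_one]

/-- the action of `Fi23` -/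
noncomputable def ρ : Fi23 →* Perm (L : Set Fi24) := cj.comp facts.phi

theorem ρ_apply (f : Fi23) : ρ f = cj (facts.phi f) := rfl

theorem comm_phi (f : Fi23) : Commute (gen .l) (facts.phi f) := (facts.phi_comm f).symm

theorem lam_comm (f : Fi23) : Commute lam (ρ f) := by
  show cj (gen .l) * cj (facts.phi f) = cj (facts.phi f) * cj (gen .l)
  rw [← map_mul, ← map_mul, (comm_phi f).eq]

theorem cj_fix {g : Fi24} {t : (L : Set Fi24)} : cj g t = t ↔ Commute g t := by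
  rw [Subtype.ext_iff, cj_coe, mul_inv_eq_iff_eq_mul]
  rfl

theorem mu_eq (a : ℤˣ) : ∃ e : Fi24, (e = 1 ∨ e = gen .l) ∧ mu lam lam_sq a = cj e := by
  rcases Int.units_eq_one_or a with rfl | rfl
  · exact ⟨1, Or.inl rfl, by rw [mu_one, map_one]⟩
  · exact ⟨gen .l, Or.inr rfl, by rw [mu_neg]; rfl⟩

/-- the transposition `k` -/
noncomputable def kk : (L : Set Fi24) := ⟨gen .k, gen_mem_L .k⟩

theorem isPt_kk : IsPt (kk : Fi24) 307872 := isPt_gen .k

theorem rho_lk : rho (gen .l) 307872 = 307840 := Cfsg.Agent.H52.GowFi23.rho_l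

theorem not_comm_lk : ¬ Commute (gen .l) (gen .k) := by
  intro h
  have h1 : rho (gen .l) 307872 = 307872 := ((isPt_gen .k).comm_iff _).1 h
  rw [rho_lk] at h1
  exact absurd h1 (by norm_num)

theorem lam_kk : lam kk ≠ kk := fun h => not_comm_lk (cj_fix.1 h)

/-- `Fi23` is transitive on the transpositions not commuting with `l` -/
theorem exists_phi {y : (L : Set Fi24)} (hy : lam y ≠ y) : ∃ f : Fi23, ρ f kk = y := by
  have h1 : ¬ Commute (gen .l) (y : Fi24) := fun h => hy (cj_fix.2 h)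
  obtain ⟨g, hg, h2, h3⟩ := Cfsg.Agent.H30.GraphFi24.noncomm_trans (gen_mem_L .l) (gen_mem_L .k) (gen_mem_L .l) y.2
    not_comm_lk h1
  obtain ⟨f, hf⟩ := (facts.mem_range_iff g).2 ⟨mul_inv_eq_iff_eq_mul.1 h2, mem_commutator_iff.1 hg⟩
  refine ⟨f, Subtype.ext ?_⟩
  rw [ρ_apply, cj_coe, hf]
  exact h3

theorem phi_mem_H (f : Fi23) : facts.phi f ∈ H := (facts.mem_H_iff _).2 (facts.phi_comm f)

/-- the points of the transpositions not commuting with `l` -/
theorem bit_UR {y : (L : Set Fi24)} (hy : lam y ≠ y) {p : ℕ} (hp : IsPt (y : Fi24) p) : UR.testBit p = true := by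
  obtain ⟨f, hf⟩ := exists_phi hy
  have h1 : IsPt (y : Fi24) (rho (facts.phi f) 307872) := by
    rw [← hf]
    exact isPt_kk.conj (facts.phi f)
  have h2 : p ∈ {p : ℕ | ∃ x ∈ H, rho x 307872 = p} := ⟨_, phi_mem_H f, h1.uniq hp⟩
  rw [orbR] at h2
  exact h2

theorem exists_of_UR {p : ℕ} (hp : UR.testBit p = true) : ∃ y : (L : Set Fi24), lam y ≠ y ∧ IsPt (y : Fi24) p := by
  have h2 : p ∈ {p : ℕ | UR.testBit p = true} := hp
  rw [← orbR] at h2
  obtain ⟨x, hx, rfl⟩ := h2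
  refine ⟨cj x kk, ?_, isPt_kk.conj x⟩
  have h3 : Commute (gen .l) x := ((facts.mem_H_iff x).1 hx).symm
  have h4 : Commute lam (cj x) := by
    show cj (gen .l) * cj x = cj x * cj (gen .l)
    rw [← map_mul, ← map_mul, h3.eq]
  exact (moved h4).2 lam_kk

theorem bits (i : Fin 3) : UR.testBit ((![307872, 32768, 32833] : Fin 3 → ℕ) i) = true := by
  fin_cases i
  · exact (tb_eq UR 307872).symm.trans tbR
  · exact (tb_eq UR 32768).symm.trans Cfsg.Agent.H52.GowFi23Chk.tb1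
  · exact (tb_eq UR 32833).symm.trans Cfsg.Agent.H52.GowFi23Chk.tb2

/-- the representatives -/
noncomputable def xr (i : Fin 3) : (L : Set Fi24) := (exists_of_UR (bits i)).choose

theorem lam_xr (i : Fin 3) : lam (xr i) ≠ xr i := (exists_of_UR (bits i)).choose_spec.1

theorem isPt_xr (i : Fin 3) : IsPt (xr i : Fi24) ((![307872, 32768, 32833] : Fin 3 → ℕ) i) :=
  (exists_of_UR (bits i)).choose_spec.2

/-- elements of `H` -/
theorem H_cases {x : Fi24} (hx : x ∈ H) : ∃ (f : Fi23) (e : ℤˣ), cj x = mu lam lam_sq e * ρ f := by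
  obtain ⟨f, h | h⟩ := facts.mem_H_cases hx
  · exact ⟨f, 1, by rw [mu_one, one_mul, h]; rfl⟩
  · exact ⟨f, -1, by rw [mu_neg, h, map_mul]; exact (lam_comm f).symm.eq⟩

theorem mu_mul_self (a : ℤˣ) : mu lam lam_sq a * mu lam lam_sq a = 1 := by
  rw [← map_mul, Int.units_mul_self, map_one]

theorem mu_mu (a : ℤˣ) (x : (L : Set Fi24)) : mu lam lam_sq a (mu lam lam_sq a x) = x := by
  rw [← Perm.mul_apply, mu_mul_self]; rfl

theorem mu_ρ (a : ℤˣ) (f : Fi23) (x : (L : Set Fi24)) : mu lam lam_sq a (ρ f x) = ρ f (mu lam lam_sq a x) := by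
  rw [← Perm.mul_apply, (mu_comm lam lam_sq (lam_comm f) a).eq, Perm.mul_apply]

theorem hcov (y y' : (L : Set Fi24)) (hy : lam y ≠ y) (hy' : lam y' ≠ y') :
    ∃ i, ∃ a b : ℤˣ, ∃ g, mu lam lam_sq a (ρ g kk) = y ∧ mu lam lam_sq b (ρ g (xr i)) = y' := by
  obtain ⟨f0, hf0⟩ := exists_phi hy
  have hm : lam (ρ f0⁻¹ y') ≠ ρ f0⁻¹ y' := (moved (lam_comm f0⁻¹)).2 hy'
  obtain ⟨p, hp⟩ := exists_pt (ρ f0⁻¹ y').2
  obtain ⟨i, κ, hκ, h1⟩ := Cfsg.Agent.H52.GowFi23.cover p (bit_UR hm hp)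
  have h2 : cj κ (xr i) = ρ f0⁻¹ y' := by
    have h3 := (isPt_xr i).conj κ
    rw [h1] at h3
    exact Subtype.ext (h3.inj hp)
  obtain ⟨e', h3⟩ : ∃ e' : ℤˣ, cj κ kk = mu lam lam_sq e' kk := by
    have h4 := isPt_kk.conj κ
    rcases Cfsg.Agent.H52.GowFi23.K₁_fix κ hκ with ⟨h5, -⟩ | ⟨h5, -⟩
    · refine ⟨1, Subtype.ext ?_⟩
      rw [h5] at h4
      rw [mu_one]
      exact h4.inj isPt_kk
    · refine ⟨-1, Subtype.ext ?_⟩
      rw [h5, ← rho_lk] at h4
      rw [mu_neg]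
      exact h4.inj (isPt_kk.conj (gen .l))
  obtain ⟨f, e, h4⟩ := H_cases (Cfsg.Agent.H52.GowFi23.K₁_le hκ)
  rw [h4, Perm.mul_apply] at h2 h3
  have h5 : ρ f0 (ρ f0⁻¹ y') = y' := by
    rw [← Perm.mul_apply, ← map_mul, mul_inv_cancel, map_one]; rfl
  refine ⟨i, e * e', e, f0 * f, ?_, ?_⟩
  · rw [map_mul ρ, Perm.mul_apply, mu_ρ, map_mul, Perm.mul_apply]
    have h6 : mu lam lam_sq e' (ρ f kk) = mu lam lam_sq e kk := by
      have h7 := congrArg (fun t => mu lam lam_sq e' (mu lam lam_sq e t)) h3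
      simp only [mu_mu] at h7
      rw [h7]
      rw [← Perm.mul_apply, ← map_mul, mul_comm e' e, map_mul, Perm.mul_apply, mu_mu]
    rw [h6, mu_mu]
    exact hf0
  · rw [map_mul ρ, Perm.mul_apply, mu_ρ, h2, h5]

theorem hns : ∃ y y', lam y ≠ y ∧ lam y' ≠ y' ∧ ∃ g : Fi23, (ρ g y = y ∧ lam (ρ g y') = y') ∨
    (lam (ρ g y) = y ∧ ρ g y' = y') := by
  have hw0 : rho (word ws) 0 = 0 := rho_of_chkPt chk_s0
  have hwk : rho (word ws) 307872 = 307872 := rho_of_chkPt chk_sk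
  have hw : rho (word ws) 32833 = 32865 := rho_of_chkPt chk_s
  have hl : rho (gen .l) 32833 = 32865 := by
    have h := rho_of_chkPt chk_l
    rwa [Cfsg.Agent.H52.GowFi23.word_gen] at h
  have hH : word ws ∈ H := (facts.mem_H_iff _).2 ((fix_iff _).1 hw0)
  have hx2 : IsPt (xr 2 : Fi24) 32833 := isPt_xr 2
  have e1 : cj (word ws) kk = kk := by
    have h := isPt_kk.conj (word ws)
    rw [hwk] at h
    exact Subtype.ext (h.inj isPt_kk)
  have e2 : cj (word ws) (xr 2) = lam (xr 2) := by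
    have h := hx2.conj (word ws)
    rw [hw, ← hl] at h
    exact Subtype.ext (h.inj (hx2.conj (gen .l)))
  have hll : ∀ x, lam (lam x) = x := fun x => by
    rw [← Perm.mul_apply, lam_sq]; rfl
  obtain ⟨f, h | h⟩ := facts.mem_H_cases hH
  · refine ⟨kk, xr 2, lam_kk, lam_xr 2, f, Or.inl ⟨?_, ?_⟩⟩
    · rw [ρ_apply, ← h, e1]
    · rw [ρ_apply, ← h, e2, hll]
  · have e3 : ∀ x, cj (word ws) x = lam (ρ f x) := by
      intro x
      rw [h, map_mul, ← Perm.mul_apply, (lam_comm f).eq]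
      rfl
    refine ⟨kk, xr 2, lam_kk, lam_xr 2, f, Or.inr ⟨?_, ?_⟩⟩
    · rw [← e3, e1]
    · rw [e3] at e2
      exact lam.injective e2

theorem finite24 : Finite Fi24 := finite_Fi24

/-- **The norm of the signed permutation character is at most 2.** -/
theorem norm [Fintype Fi23] : ∃ m : ℕ, m ≤ 2 ∧
    ∑ g, ((Nat.card {x // ρ g x = x} : ℤ) - Nat.card {x // lam (ρ g x) = x}) ^ 2 = 4 * Nat.card Fi23 * m := by
  have := finite24
  obtain ⟨m, hm, h⟩ := norm_sum_sub ρ lam lam_sq lam_comm kk lam_kk xr lam_xr hcov hns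
  exact ⟨m, by omega, h⟩

end Cfsg.Agent.H592.EP.Fi
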