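import Cfsg.Agent.H592.EP.Ker
import Cfsg.Agent.H592.EP.FiGeo
import Cfsg.Agent.H442.RankVal

/-!
# S4929, `Fi₂₃` (helper592): the irreducible characters of degree 25806 and 111826
-/

set_option autoImplicit false
set_option maxRecDepth 100000

namespace Cfsg.Agent.H592.EP.Fi

open Cfsg Equiv
open Cfsg.Agent.Lib.PermNet Cfsg.Agent.Lib.PermNetPt Cfsg.Agent.Lib.PermNetOrbit
open Cfsg.Agent.Fischer.Fi24RepDef Cfsg.Agent.Fischer.Fi24Rep
open Cfsg.Agent.Fischer.Fi24RepOrb (UG)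
open Cfsg.Agent.H30.FiE
open Cfsg.Agent.H690.Spor.RankThree Cfsg.Agent.H690.Spor.RankThree.R3
open Cfsg.Agent.R08 Cfsg.Agent.R08.FiTwentyFour
open Cfsg.Agent.KFacts.FiTF.Pts Cfsg.Agent.KFacts.FiTF.FixMask
open Cfsg.Agent.Characters.Core
open Cfsg.Spor (Fi24 Fi23)

local notation "L" => Cfsg.Agent.R08.FiTwentyFour.L

/-- the points as numbers -/
theorem exists_e : ∃ e : (L : Set Fi24) ≃ {p : ℕ // UG.testBit p = true}, ∀ d : (L : Set Fi24), IsPt (d : Fi24) (e d).1 := by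
  have h0 : ∀ d : (L : Set Fi24), ∃ p, IsPt (d : Fi24) p := fun d => exists_pt d.2
  choose f hf using h0
  refine ⟨⟨fun d => ⟨f d, isPt_iff.2 ⟨_, hf d⟩⟩, fun p => ⟨tp p.1, (isPt_tp p.2).mem⟩, fun d => ?_, fun p => ?_⟩, hf⟩
  · exact Subtype.ext (tp_eq (hf d))
  · exact Subtype.ext ((hf ⟨tp p.1, (isPt_tp p.2).mem⟩).uniq (isPt_tp p.2))

theorem card_eq {X : Type*} (e : X ≃ {p : ℕ // UG.testBit p = true}) (p : X → Prop) (S : Set ℕ)
    (h : ∀ y, p y ↔ (e y).1 ∈ S) (hS : ∀ n ∈ S, UG.testBit n = true) : Nat.card {y // p y} = S.ncard := by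
  rw [← Nat.card_coe_set_eq]
  refine Nat.card_congr ⟨fun y => ⟨(e y.1).1, (h _).1 y.2⟩, fun n => ⟨e.symm ⟨n.1, hS _ n.2⟩, (h _).2 ?_⟩,
    fun y => ?_, fun n => ?_⟩
  · rw [e.apply_symm_apply]
    exact n.2
  · apply Subtype.ext
    show e.symm ⟨(e y.1).1, _⟩ = y.1
    rw [Subtype.coe_eta, e.symm_apply_apply]
  · apply Subtype.ext
    show (e (e.symm ⟨n.1, _⟩)).1 = n.1
    rw [e.apply_symm_apply]

theorem com_iff' {d d' : Fi24} {p q : ℕ} (h : IsPt d p) (h' : IsPt d' q) : (d ≠ d' ∧ Commute d d') ↔ Com p q := by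
  have e1 := tp_eq h
  have e2 := tp_eq h'
  constructor
  · rintro ⟨h1, h2⟩
    refine ⟨isPt_iff.2 ⟨_, h⟩, isPt_iff.2 ⟨_, h'⟩, fun h3 => h1 ?_, by rw [e1, e2]; exact h2⟩
    subst h3
    exact h.inj h'
  · rintro ⟨-, -, h1, h2⟩
    rw [e1, e2] at h2
    refine ⟨fun h3 => h1 ?_, h2⟩
    subst h3
    exact h.uniq h'

/-- the relation -/
def CR (x y : (L : Set Fi24)) : Prop := (x : Fi24) ≠ y ∧ Commute (x : Fi24) y

theorem conj_comm (g x y : Fi24) : Commute (g * x * g⁻¹) (g * y * g⁻¹) ↔ Commute x y := by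
  constructor
  · intro h
    have h1 := h.eq
    show x * y = y * x
    have h2 : g * (x * y) * g⁻¹ = g * (y * x) * g⁻¹ := by
      calc g * (x * y) * g⁻¹ = g * x * g⁻¹ * (g * y * g⁻¹) := by group
        _ = g * y * g⁻¹ * (g * x * g⁻¹) := h1
        _ = g * (y * x) * g⁻¹ := by group
    exact mul_left_cancel (mul_right_cancel h2)
  · intro h
    show g * x * g⁻¹ * (g * y * g⁻¹) = g * y * g⁻¹ * (g * x * g⁻¹)
    calc g * x * g⁻¹ * (g * y * g⁻¹) = g * (x * y) * g⁻¹ := by group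
      _ = g * (y * x) * g⁻¹ := by rw [h.eq]
      _ = g * y * g⁻¹ * (g * x * g⁻¹) := by group

theorem CR_cj (g : Fi24) (x y : (L : Set Fi24)) : CR (cj g x) (cj g y) ↔ CR x y := by
  unfold CR
  rw [cj_coe, cj_coe, conj_comm]
  refine and_congr_left fun _ => not_congr ?_
  rw [mul_left_inj, mul_right_inj]

theorem CR_lam (x : (L : Set Fi24)) : ¬ CR x (lam x) := by
  rintro ⟨h1, h2⟩
  have hl : (lam x : Fi24) = gen .l * x * (gen .l)⁻¹ := rfl
  have hli : (gen .l)⁻¹ = gen .l := inv_eq_of_mul_eq_one_left ll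
  rw [hl, hli] at h1 h2
  have h30 : Commute (gen .l) (x : Fi24) ∨ gen .l * (x : Fi24) * gen .l = x * gen .l * x :=
    FiTwentyFour.three (gen_mem_L .l) x.2
  rcases h30 with h3 | h3
  · apply h1
    rw [h3.eq, mul_assoc, ll, mul_one]
  · rw [h3] at h2
    have h4 : (x : Fi24) * (x * gen .l * x) = (x * gen .l * x) * x := h2.eq
    have hx : (x : Fi24) * x = 1 := FiTwentyFour.sq x.2
    have h5 : gen .l * (x : Fi24) = x * gen .l := by
      calc gen .l * (x : Fi24) = (x * x) * (gen .l * x) := by rw [hx, one_mul]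
        _ = x * (x * gen .l * x) := by group
        _ = (x * gen .l * x) * x := h4
        _ = x * gen .l * (x * x) := by group
        _ = x * gen .l := by rw [hx, mul_one]
    apply h1
    rw [h5, mul_assoc, ll, mul_one]

open Classical in
/-- **The two constituents.** -/
theorem exists_chars : ∃ χ₁ χ₂ : IrrCharacter Fi23, charDegree (χ₁ : Fi23 → ℂ) = 25806 ∧
    charDegree (χ₂ : Fi23 → ℂ) = 111826 ∧ ∀ g, (χ₁ : Fi23 → ℂ) g + (χ₂ : Fi23 → ℂ) g =
      ((Nat.card {x // ρ g x = x} : ℂ) - Nat.card {x // lam (ρ g x) = x}) / 2 := by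
  have hfin24 : Finite Fi24 := finite_Fi24
  have hfin23 : Finite Fi23 := Cfsg.Agent.R08.FiTwentyThree.finite_fi23
  let _ := Cfsg.Agent.H30.GraphFi24.act
  have h3 : R3 Spor.Fi24' (L : Set Fi24) CR 31671 275264 := Cfsg.Agent.H30.GraphFi24.r3
  obtain ⟨e, he⟩ := exists_e
  have := Fintype.ofFinite (L : Set Fi24)
  have := Fintype.ofFinite Fi23
  set y0 : (L : Set Fi24) := ⟨gen .l, gen_mem_L .l⟩ with hy0
  set y2 : (L : Set Fi24) := ⟨gen .c, gen_mem_L .c⟩ with hy2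
  have p0 : IsPt (y0 : Fi24) 0 := isPt_gen .l
  have p2 : IsPt (y2 : Fi24) 2 := isPt_gen .c
  have h02 : Com 0 2 := by
    refine ⟨bit_gen .l, bit_gen .c, by norm_num, ?_⟩
    have e1 : tp 0 = gen .l := tp_gen .l
    have e2 : tp 2 = gen .c := tp_gen .c
    rw [e1, e2]
    exact Cfsg.Agent.Fischer.Fi24Final.gen_comm (x := .l) (y := .c) (by decide)
  have hl : com CR y0 y2 = 3510 := by
    rw [← ncard_lam]
    refine card_eq e _ _ (fun z => ?_) fun n hn => hn.1.2.1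
    rw [Set.mem_ofPred_eq]
    exact and_congr (com_iff' p0 (he z)) (com_iff' (he z) p2)
  have hab := Cfsg.Agent.H442.RankVal.params (h := h3) (x₀ := y0) (y₀ := y2)
    ((com_iff' p0 p2).2 h02) (a := 3510) (b := 3240) hl (by norm_num)
  obtain ⟨m, hm, hsum⟩ := norm
  have hfix : Nat.card {x // lam x = x} = 31672 := by
    rw [card_split (fun x => lam x = x) (fun x => x = y0)]
    have e1 : Nat.card {x // lam x = x ∧ x = y0} = 1 := by
      have h4 : lam y0 = y0 := cj_fix.2 (Commute.refl _)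
      rw [Nat.card_eq_one_iff_unique]
      exact ⟨⟨fun a b => Subtype.ext (a.2.2.trans b.2.2.symm)⟩, ⟨⟨y0, h4, rfl⟩⟩⟩
    have e2 : Nat.card {x // lam x = x ∧ ¬ x = y0} = 31671 := by
      rw [← h3.cardk y0]
      refine Nat.card_congr (Equiv.subtypeEquivRight fun x => ?_)
      constructor
      · rintro ⟨h4, h5⟩
        exact ⟨fun h => h5 (Subtype.ext h.symm), cj_fix.1 h4⟩
      · rintro ⟨h4, h5⟩
        exact ⟨cj_fix.2 h5, fun h => h4 (congrArg Subtype.val h).symm⟩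
    rw [e1, e2]
  obtain ⟨χ₁, χ₂, h4, h5, h6⟩ := split_chars (B := Fi23) h3 hab (r := 351) (s := -81) (by norm_num) (by norm_num)
    (by norm_num) (by norm_num) (by norm_num) ρ lam lam_sq lam_comm (fun g x y => CR_cj _ x y) (fun x y => CR_cj _ x y)
    CR_lam (N := 275264) (by rw [hfix, h3.cardn]) (by norm_num) hm (by
      intro inst
      rw [← hsum]
      refine Finset.sum_congr ?_ fun _ _ => rfl
      ext x
      simp)
  refine ⟨χ₁, χ₂, ?_, ?_, h6⟩
  · rw [Cfsg.Agent.Blocks.Basic.irr_one_eq_charDegree χ₁.2] at h4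
    have h7 : (charDegree (χ₁ : Fi23 → ℂ) : ℂ) = (25806 : ℕ) := by
      rw [h4]
      norm_num
    exact_mod_cast h7
  · rw [Cfsg.Agent.Blocks.Basic.irr_one_eq_charDegree χ₂.2] at h5
    have h7 : (charDegree (χ₂ : Fi23 → ℂ) : ℂ) = (111826 : ℕ) := by
      rw [h5]
      norm_num
    exact_mod_cast h7

end Cfsg.Agent.H592.EP.Fi
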