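import Cfsg.Agent.H592.EP.FiChar
import Cfsg.Agent.H592.EP.FiPerm
import Cfsg.Agent.H592.EP.Count
import Cfsg.Agent.H841.Phi
import Cfsg.Agent.H892.EP.Defs

/-!
# S4929, `Fi₂₃`, `p = 5` (helper592)
-/

set_option autoImplicit false
set_option maxRecDepth 100000

namespace Cfsg.Agent.H592.EP.Fi

open Cfsg Equiv Subgroup
open Cfsg.Agent.Fischer.Fi24Rep
open Cfsg.Agent.Fischer.Fi24Final (sgn)
open Cfsg.Agent.R08 Cfsg.Agent.R08.FiTwentyFour
open Cfsg.Agent.H841.Five (Phi Phi_injective Phi_comm_y0 exists_of_comm of_comm_y0 Phi_swap_mem_L)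
open Cfsg.Agent.LThreeFi24.SNine (y0)
open Cfsg.Agent.Characters.Core
open Cfsg.Spor (Fi24 Fi23)

local notation "L" => Cfsg.Agent.R08.FiTwentyFour.L

/-- the centralizer `5 × S₉`, conjugated so that `l` is the transposition `(7 8)` -/
theorem exists_model : ∃ (PH : Perm (Fin 9) →* Fi24) (w : Fi24), PH (swap 7 8) = gen .l ∧ w ^ 5 = 1 ∧
    (∀ σ, Commute (PH σ) w) ∧ (∀ n, Commute n w → ∃ (i : ℕ) (σ : Perm (Fin 9)), n = w ^ i * PH σ) ∧
    (∀ d ∈ L, Commute d w → ∃ i j : Fin 9, i ≠ j ∧ d = PH (swap i j)) ∧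
    (∀ i j : Fin 9, i ≠ j → PH (swap i j) ∈ L) ∧ Function.Injective PH := by
  obtain ⟨c, hc⟩ : ∃ c : Fi24, c * gen .l * c⁻¹ = Phi (swap 7 8) :=
    isConj_iff.1 (show IsConj (gen .l) (Phi (swap 7 8)) from Phi_swap_mem_L (by decide))
  let κ : Fi24 ≃* Fi24 := MulAut.conj c⁻¹
  have hκ : ∀ x, κ x = c⁻¹ * x * c := fun x => by
    show c⁻¹ * x * c⁻¹⁻¹ = _
    rw [inv_inv]
  have hκL : ∀ x, κ x ∈ L ↔ x ∈ L := by
    intro x
    rw [hκ]
    constructor
    · intro h
      have := FiTwentyFour.conj h c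
      rwa [show c * (c⁻¹ * x * c) * c⁻¹ = x by group] at this
    · intro h
      have := FiTwentyFour.conj h c⁻¹
      rwa [inv_inv] at this
  refine ⟨κ.toMonoidHom.comp Phi, κ y0, ?_, ?_, ?_, ?_, ?_, ?_, ?_⟩
  · show κ (Phi (swap 7 8)) = gen .l
    rw [hκ, ← hc]
    group
  · rw [← map_pow, Cfsg.Agent.LThreeFi24.FiveConj.e5, map_one]
  · intro σ
    show Commute (κ (Phi σ)) (κ y0)
    exact (Phi_comm_y0 σ).map κ
  · intro n hn
    have h1 : Commute (κ.symm n) y0 := by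
      have h2 := hn.map κ.symm
      rwa [MulEquiv.symm_apply_apply] at h2
    obtain ⟨i, σ, -, -, h3⟩ := exists_of_comm h1.eq
    refine ⟨i, σ, ?_⟩
    show n = κ y0 ^ i * κ (Phi σ)
    rw [← map_pow, ← map_mul, ← h3, MulEquiv.apply_symm_apply]
  · intro d hd hn
    have h1 : Commute (κ.symm d) y0 := by
      have h2 := hn.map κ.symm
      rwa [MulEquiv.symm_apply_apply] at h2
    have h4 : κ.symm d ∈ L := by
      rw [← hκL, MulEquiv.apply_symm_apply]
      exact hd
    obtain ⟨i, j, hij, h3⟩ := of_comm_y0 h4 h1.eq.symm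
    refine ⟨i, j, hij, ?_⟩
    show d = κ (Phi (swap i j))
    rw [← h3, MulEquiv.apply_symm_apply]
  · intro i j hij
    exact (hκL _).2 (Phi_swap_mem_L hij)
  · exact κ.injective.comp Phi_injective

theorem sgn_of_pow {n : Fi24} (h : n ^ 5 = 1) : sgn n = 1 := by
  rcases Int.units_eq_one_or (sgn n) with h1 | h1
  · exact h1
  · exfalso
    have h2 : sgn n ^ 5 = 1 := by rw [← map_pow, h, map_one]
    rw [h1] at h2
    exact absurd h2 (by decide)

theorem isP {G : Type*} [Group G] {u : G} (h : u ^ 5 = 1) : IsPGroup 5 (zpowers u) := by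
  have h1 : orderOf u ∣ 5 ^ 1 := by
    rw [pow_one]
    exact orderOf_dvd_of_pow_eq_one h
  obtain ⟨k, -, hk⟩ := (Nat.dvd_prime_pow (by norm_num : Nat.Prime 5)).1 h1
  exact IsPGroup.of_card (n := k) (by rw [Nat.card_zpowers, hk])

/-- **The count.** -/
theorem count : Nat.card {q : Fi23 × (L : Set Fi24) // ¬ 5 ∣ orderOf q.1 ∧ lam q.2 ≠ q.2 ∧ ρ q.1 q.2 = q.2} ≡ 4 [MOD 5] ∧
    Nat.card {q : Fi23 × (L : Set Fi24) // ¬ 5 ∣ orderOf q.1 ∧ lam q.2 ≠ q.2 ∧ lam (ρ q.1 q.2) = q.2} ≡ 0 [MOD 5] := by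
  have hfin24 : Finite Fi24 := finite_Fi24
  have hfin23 : Finite Fi23 := Cfsg.Agent.R08.FiTwentyThree.finite_fi23
  have f5 : Fact (Nat.Prime 5) := ⟨by norm_num⟩
  obtain ⟨PH, w, hl, hw5, hPw, hcent, htr, hPL, hinj⟩ := exists_model
  have hPP : ∀ {σ τ : Perm (Fin 9)}, Commute (PH σ) (PH τ) → σ * τ = τ * σ := by
    intro σ τ h
    apply hinj
    rw [map_mul, map_mul]
    exact h.eq
  -- the elements `u`, `v` of `Fi23`
  have hwl : w * gen .l = gen .l * w := by
    rw [← hl]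
    exact (hPw _).symm.eq
  obtain ⟨u, hu⟩ := (facts.mem_range_iff w).2 ⟨hwl, sgn_of_pow hw5⟩
  have hv5 : PH c5 ^ 5 = 1 := by rw [← map_pow, c5_pow, map_one]
  have hvl : PH c5 * gen .l = gen .l * PH c5 := by
    rw [← hl, ← map_mul, ← map_mul, c5_78]
  obtain ⟨v, hv⟩ := (facts.mem_range_iff (PH c5)).2 ⟨hvl, sgn_of_pow hv5⟩
  have hu5 : u ^ 5 = 1 := facts.phi_injective (by rw [map_pow, hu, hw5, map_one])
  have hv5' : v ^ 5 = 1 := facts.phi_injective (by rw [map_pow, hv, hv5, map_one])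
  have huv : Commute u v := by
    show u * v = v * u
    apply facts.phi_injective
    rw [map_mul, map_mul, hu, hv]
    exact (hPw c5).symm.eq
  let P : Subgroup Fi23 := zpowers u ⊔ zpowers v
  have hP : IsPGroup 5 P := by
    refine IsPGroup.to_sup_of_normal_right' (isP hu5) (isP hv5') ?_
    rw [zpowers_le, mem_normalizer_iff]
    intro h
    have h1 : ∀ a b : Fi23, Commute a b → ∀ k : ℤ, a * b ^ k * a⁻¹ = b ^ k := by
      intro a b hab k
      rw [(hab.zpow_right k).eq, mul_inv_cancel_right]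
    constructor
    · rintro ⟨k, rfl⟩
      show u * v ^ k * u⁻¹ ∈ zpowers v
      rw [h1 u v huv k]
      exact zpow_mem (mem_zpowers v) k
    · rintro ⟨k, hk⟩
      have hk' : v ^ k = u * h * u⁻¹ := hk
      have h2 : h = v ^ k := by
        calc h = u⁻¹ * (u * h * u⁻¹) * u := by group
          _ = u⁻¹ * v ^ k * u := by rw [hk']
          _ = v ^ k := by
            have h3 := h1 u⁻¹ v huv.inv_left k
            rwa [inv_inv] at h3
      rw [h2]
      exact zpow_mem (mem_zpowers v) k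
  have huP : u ∈ P := mem_sup_left (mem_zpowers u)
  have hvP : v ∈ P := mem_sup_right (mem_zpowers v)
  -- the fixed points
  have keyx : ∀ x : (L : Set Fi24), ρ u x = x → ρ v x = x → lam x ≠ x →
      ∃ i j : Fin 9, (i = 5 ∨ i = 6) ∧ (j = 7 ∨ j = 8) ∧ (x : Fi24) = PH (swap i j) := by
    intro x h1 h2 h3
    rw [ρ_apply, hu] at h1
    rw [ρ_apply, hv] at h2
    have h1' : Commute (x : Fi24) w := (cj_fix.1 h1).symm
    have h2' : Commute (PH c5) (x : Fi24) := cj_fix.1 h2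
    have h3' : ¬ Commute (gen .l) (x : Fi24) := fun h => h3 (cj_fix.2 h)
    obtain ⟨i, j, hij, hx⟩ := htr x x.2 h1'
    rw [hx] at h2' h3'
    rw [← hl] at h3'
    obtain ⟨hi, hj⟩ := c5_swap i j hij (hPP h2')
    have h4 : swap 7 8 * swap i j ≠ swap i j * swap 7 8 := by
      intro h
      apply h3'
      show PH _ * PH _ = PH _ * PH _
      rw [← map_mul, ← map_mul, h]
    rcases swap_78 i j hi hj hij h4 with ⟨h5, h6⟩ | ⟨h5, h6⟩
    · exact ⟨i, j, h5, h6, hx⟩
    · exact ⟨j, i, h5, h6, by rw [hx, swap_comm]⟩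
  have keyg : ∀ g : Fi23, u * g = g * u → v * g = g * v → ∃ (a : ℕ) (σ : Perm (Fin 9)), facts.phi g = w ^ a * PH σ ∧
      σ * c5 = c5 * σ ∧ σ * swap 7 8 = swap 7 8 * σ := by
    intro g h1 h2
    have h1' : Commute (facts.phi g) w := by
      rw [← hu]
      exact (show Commute g u from h1.symm).map facts.phi
    have h2' : Commute (facts.phi g) (PH c5) := by
      rw [← hv]
      exact (show Commute g v from h2.symm).map facts.phi
    have h3' : Commute (facts.phi g) (PH (swap 7 8)) := by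
      rw [hl]
      exact facts.phi_comm g
    obtain ⟨a, σ, h4⟩ := hcent _ h1'
    have h5 : ∀ τ, Commute (facts.phi g) (PH τ) → σ * τ = τ * σ := by
      intro τ hτ
      apply hPP
      have h6 : PH σ = (w ^ a)⁻¹ * facts.phi g := by rw [h4]; group
      rw [h6]
      exact (((hPw τ).symm.pow_left a).inv_left).mul_left hτ
    exact ⟨a, σ, h4, h5 _ h2', h5 _ h3'⟩
  have hpow : ∀ (a : ℕ) (σ : Perm (Fin 9)), σ ^ 5 = 1 → (w ^ a * PH σ) ^ 5 = 1 := by
    intro a σ h
    have h1 : Commute (w ^ a) (PH σ) := (hPw σ).symm.pow_left a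
    rw [h1.mul_pow, ← pow_mul, mul_comm a 5, pow_mul, hw5, one_pow, one_mul, ← map_pow, h, map_one]
  have hcomm : ∀ (a : ℕ) (σ τ : Perm (Fin 9)), Commute (w ^ a * PH σ) (PH τ) → σ * τ = τ * σ := by
    intro a σ τ h
    apply hPP
    have h6 : PH σ = (w ^ a)⁻¹ * (w ^ a * PH σ) := by group
    rw [h6]
    exact (((hPw τ).symm.pow_left a).inv_left).mul_left h
  have hreg : ∀ g h : Fi23, ¬ 5 ∣ orderOf g → ¬ 5 ∣ orderOf (h * g * h⁻¹) := by
    intro g h hg
    have h1 : orderOf (h * g * h⁻¹) = orderOf g := (MulAut.conj h).orderOf_eq g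
    rwa [h1]
  have hQ : ∀ (g : Fi23) (x : (L : Set Fi24)), lam x ≠ x → lam (ρ g x) ≠ ρ g x := fun g x h => (moved (lam_comm g)).2 h
  constructor
  · have h1 := card_mod ρ (1 : Perm (L : Set Fi24)) (fun g => Commute.one_left _) P hP (fun g => ¬ 5 ∣ orderOf g) hreg
      (fun x => lam x ≠ x) hQ
    refine h1.trans ?_
    let I : Fin 2 → Fin 9 := ![5, 6]
    let J : Fin 2 → Fin 9 := ![7, 8]
    have hI : ∀ a, I a = 5 ∨ I a = 6 := by decide
    have hJ : ∀ a, J a = 7 ∨ J a = 8 := by decide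
    have hIJ : ∀ a b, I a ≠ J b := by decide
    have hIJinj : ∀ a b a' b', swap (I a) (J b) = swap (I a') (J b') → a = a' ∧ b = b' := by decide
    let X : Fin 2 × Fin 2 → (L : Set Fi24) := fun q => ⟨PH (swap (I q.1) (J q.2)), hPL _ _ (hIJ _ _)⟩
    have hX : ∀ q, lam (X q) ≠ X q := by
      intro q h
      have h2 : Commute (gen .l) (PH (swap (I q.1) (J q.2))) := cj_fix.1 h
      rw [← hl] at h2
      exact swap_78' _ _ (hI _) (hJ _) (hPP h2)
    have hXP : ∀ q, ∀ h ∈ P, ρ h (X q) = X q := by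
      intro q
      have h2 : P ≤ (MulAction.stabilizer (Perm (L : Set Fi24)) (X q)).comap ρ := by
        refine sup_le ?_ ?_
        · rw [zpowers_le]
          show ρ u (X q) = X q
          rw [ρ_apply, hu, cj_fix]
          exact (hPw _).symm
        · rw [zpowers_le]
          show ρ v (X q) = X q
          rw [ρ_apply, hv, cj_fix]
          show PH c5 * PH _ = PH _ * PH c5
          rw [← map_mul, ← map_mul, c5_comm _ _ (hI _) (hJ _)]
      exact fun h hh => h2 hh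
    have h2 : Nat.card {q : Fi23 × (L : Set Fi24) // ((¬ 5 ∣ orderOf q.1) ∧ lam q.2 ≠ q.2 ∧
        (1 : Perm (L : Set Fi24)) (ρ q.1 q.2) = q.2) ∧ ∀ h ∈ P, h * q.1 = q.1 * h ∧ ρ h q.2 = q.2} = 4 := by
      let F : Fin 2 × Fin 2 → {q : Fi23 × (L : Set Fi24) // ((¬ 5 ∣ orderOf q.1) ∧ lam q.2 ≠ q.2 ∧
          (1 : Perm (L : Set Fi24)) (ρ q.1 q.2) = q.2) ∧ ∀ h ∈ P, h * q.1 = q.1 * h ∧ ρ h q.2 = q.2} :=
        fun q => ⟨(1, X q), ⟨by rw [orderOf_one]; norm_num, hX q, by
          show (1 : Perm (L : Set Fi24)) (ρ 1 (X q)) = X q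
          rw [map_one]; rfl⟩, fun h hh => ⟨by rw [mul_one, one_mul], hXP q h hh⟩⟩
      have hF : Function.Bijective F := by
        constructor
        · rintro ⟨a, b⟩ ⟨a', b'⟩ h
          have h3 : X (a, b) = X (a', b') := congrArg (fun q => q.1.2) h
          obtain ⟨h4, h5⟩ := hIJinj a b a' b' (hinj (congrArg Subtype.val h3))
          rw [h4, h5]
        · rintro ⟨⟨g, x⟩, ⟨h3, h4, h5⟩, h6⟩
          obtain ⟨i, j, hi, hj, hx⟩ := keyx x (h6 u huP).2 (h6 v hvP).2 h4
          obtain ⟨a, σ, hg, hσ1, hσ2⟩ := keyg g (h6 u huP).1 (h6 v hvP).1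
          have h5' : Commute (facts.phi g) (x : Fi24) := cj_fix.1 h5
          rw [hg, hx] at h5'
          have h7 := pow_five hσ1 hσ2 hi hj (hcomm a σ _ h5')
          have h8 : g ^ 5 = 1 := facts.phi_injective (by rw [map_pow, hg, hpow a σ h7, map_one])
          have h9 : g = 1 := by
            rcases (Nat.dvd_prime (by norm_num : Nat.Prime 5)).1 (orderOf_dvd_of_pow_eq_one h8) with h | h
            · exact orderOf_eq_one_iff.1 h
            · exact absurd (by
                show 5 ∣ orderOf g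
                rw [h]) h3
          obtain ⟨a', ha'⟩ : ∃ a', I a' = i := by
            rcases hi with rfl | rfl
            · exact ⟨0, rfl⟩
            · exact ⟨1, rfl⟩
          obtain ⟨b', hb'⟩ : ∃ b', J b' = j := by
            rcases hj with rfl | rfl
            · exact ⟨0, rfl⟩
            · exact ⟨1, rfl⟩
          refine ⟨(a', b'), Subtype.ext (Prod.ext h9.symm (Subtype.ext ?_))⟩
          show PH (swap (I a') (J b')) = x
          rw [ha', hb', hx]
      rw [← Nat.card_congr (Equiv.ofBijective F hF), Nat.card_prod, Nat.card_fin]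
    rw [h2]
  · have h1 := card_mod ρ lam lam_comm P hP (fun g => ¬ 5 ∣ orderOf g) hreg (fun x => lam x ≠ x) hQ
    refine h1.trans ?_
    have h2 : IsEmpty {q : Fi23 × (L : Set Fi24) // ((¬ 5 ∣ orderOf q.1) ∧ lam q.2 ≠ q.2 ∧
        lam (ρ q.1 q.2) = q.2) ∧ ∀ h ∈ P, h * q.1 = q.1 * h ∧ ρ h q.2 = q.2} := by
      constructor
      rintro ⟨⟨g, x⟩, ⟨h3, h4, h5⟩, h6⟩
      obtain ⟨i, j, hi, hj, hx⟩ := keyx x (h6 u huP).2 (h6 v hvP).2 h4
      obtain ⟨a, σ, hg, hσ1, hσ2⟩ := keyg g (h6 u huP).1 (h6 v hvP).1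
      have h7 : cj (gen .l * facts.phi g) x = x := by
        rw [map_mul]
        exact h5
      have h8 : gen .l * facts.phi g = w ^ a * PH (swap 7 8 * σ) := by
        rw [hg, map_mul, hl, ← mul_assoc, ← mul_assoc]
        congr 1
        rw [← hl]
        exact ((hPw _).pow_right a).eq
      have h9 : Commute (gen .l * facts.phi g) (x : Fi24) := cj_fix.1 h7
      rw [h8, hx] at h9
      have hs1 : (swap 7 8 * σ) * c5 = c5 * (swap 7 8 * σ) := by
        rw [mul_assoc, hσ1, ← mul_assoc, ← c5_78, mul_assoc]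
      have hs2 : (swap 7 8 * σ) * swap 7 8 = swap 7 8 * (swap 7 8 * σ) := by
        rw [mul_assoc, hσ2]
      have h10 := hpow a _ (pow_five hs1 hs2 hi hj (hcomm a _ _ h9))
      rw [← h8] at h10
      have h11 := sgn_of_pow h10
      have h12 : sgn (gen .l) = -1 := sgn_L (gen_mem_L .l)
      rw [map_mul, facts.sgn_phi, h12] at h11
      exact absurd h11 (by decide)
    rw [Nat.card_of_isEmpty]

end Cfsg.Agent.H592.EP.Fi
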