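import Cfsg.Agent.H592.EP.FiFive
import Cfsg.Agent.H892.EP.Basic

/-!
# S4929, `Fi₂₃`, `p = 5` (helper592)
-/

set_option autoImplicit false
set_option maxRecDepth 100000

namespace Cfsg.Agent.H592.EP

open Equiv

theorem fix_diff {X : Type*} [Finite X] {l σ : Perm X} (h : Commute l σ) :
    (Nat.card {x // σ x = x} : ℤ) - Nat.card {x // l (σ x) = x} =
      (Nat.card {x // l x ≠ x ∧ σ x = x} : ℤ) - Nat.card {x // l x ≠ x ∧ l (σ x) = x} := by
  rw [card_split (fun x => σ x = x) (fun x => l x = x), card_split (fun x => l (σ x) = x) (fun x => l x = x)]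
  have e1 : Nat.card {x // σ x = x ∧ l x = x} = Nat.card {x // l (σ x) = x ∧ l x = x} := by
    refine Nat.card_congr (Equiv.subtypeEquivRight fun x => ?_)
    constructor
    · rintro ⟨h1, h2⟩
      exact ⟨by rw [h1, h2], h2⟩
    · rintro ⟨h1, h2⟩
      refine ⟨?_, h2⟩
      rw [← Perm.mul_apply, h.eq, Perm.mul_apply, h2] at h1
      exact h1
  have e2 : Nat.card {x // σ x = x ∧ ¬ l x = x} = Nat.card {x // l x ≠ x ∧ σ x = x} :=
    Nat.card_congr (Equiv.subtypeEquivRight fun x => and_comm)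
  have e3 : Nat.card {x // l (σ x) = x ∧ ¬ l x = x} = Nat.card {x // l x ≠ x ∧ l (σ x) = x} :=
    Nat.card_congr (Equiv.subtypeEquivRight fun x => and_comm)
  rw [e1, e2, e3]
  push_cast
  ring

namespace Fi

open Cfsg Cfsg.Agent.Characters.Core
open Cfsg.Spor (Fi24 Fi23)

local notation "L" => Cfsg.Agent.R08.FiTwentyFour.L

/-- **`p = 5`.** -/
theorem evAt_five : Cfsg.Agent.H892.EP.EvAt 5 Fi23 := by
  classical
  intro M hM
  have hfin24 : Finite Fi24 := Cfsg.Agent.R08.FiTwentyFour.finite_Fi24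
  have hfin23 : Finite Fi23 := Cfsg.Agent.R08.FiTwentyThree.finite_fi23
  have := Fintype.ofFinite Fi23
  have f5 : Fact (Nat.Prime 5) := ⟨by norm_num⟩
  have hP : M.IsPrime := hM.2.1.isPrime
  obtain ⟨χ₁, χ₂, h1, h2, h3⟩ := exists_chars
  by_contra hcon
  push Not at hcon
  have hS : ∀ χ : IrrCharacter Fi23, 2 ∣ charDegree (χ : Fi23 → ℂ) →
      ∑ᶠ x ∈ {x : Fi23 | ¬ 5 ∣ orderOf x}, (χ : Fi23 → ℂ) x = 0 := by
    intro χ hχ
    by_contra h
    exact hcon χ (Cfsg.Agent.H892.EP.mem_of_regSum hM χ h) hχ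
  have s1 := hS χ₁ (by rw [h1]; norm_num)
  have s2 := hS χ₂ (by rw [h2]; norm_num)
  rw [finsum_mem_eq_finite_toFinset_sum _ (Set.toFinite _)] at s1 s2
  set F := (Set.toFinite {x : Fi23 | ¬ 5 ∣ orderOf x}).toFinset with hF
  have hmem : ∀ g, g ∈ F ↔ ¬ 5 ∣ orderOf g := fun g => by
    rw [hF, Set.Finite.mem_toFinset]
    rfl
  have s3 : ∑ g ∈ F, ((χ₁ : Fi23 → ℂ) g + (χ₂ : Fi23 → ℂ) g) = 0 := by
    rw [Finset.sum_add_distrib, s1, s2, add_zero]
  rw [Finset.sum_congr rfl fun g _ => h3 g, ← Finset.sum_div] at s3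
  have s4 : ∑ g ∈ F, ((Nat.card {x // ρ g x = x} : ℂ) - Nat.card {x // lam (ρ g x) = x}) = 0 := by
    have := (div_eq_zero_iff).1 s3
    rcases this with h | h
    · exact h
    · exact absurd h two_ne_zero
  have s5 : ∑ g ∈ F, ((Nat.card {x // ρ g x = x} : ℤ) - Nat.card {x // lam (ρ g x) = x}) = 0 := by
    exact_mod_cast s4
  rw [Finset.sum_congr rfl fun g _ => fix_diff (lam_comm g), Finset.sum_sub_distrib, ← Nat.cast_sum,
    ← Nat.cast_sum] at s5
  have e1 := sum_fix (fun g => ρ g) F (fun x => lam x ≠ x)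
  have e2 := sum_fix (fun g => lam * ρ g) F (fun x => lam x ≠ x)
  simp only [Perm.mul_apply] at e2
  rw [e1, e2] at s5
  obtain ⟨c1, c2⟩ := count
  simp only [hmem] at s5
  have s6 : Nat.card {q : Fi23 × (L : Set Fi24) // ¬ 5 ∣ orderOf q.1 ∧ lam q.2 ≠ q.2 ∧ ρ q.1 q.2 = q.2} =
      Nat.card {q : Fi23 × (L : Set Fi24) // ¬ 5 ∣ orderOf q.1 ∧ lam q.2 ≠ q.2 ∧ lam (ρ q.1 q.2) = q.2} := by
    have := sub_eq_zero.1 s5
    exact_mod_cast this
  rw [s6] at c1
  have c3 := c1.symm.trans c2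
  exact absurd c3 (by decide)

end Fi

end Cfsg.Agent.H592.EP
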