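import Cfsg.Agent.H592.EP.McLSrg
import Cfsg.Agent.H359.CT.McLClass
import Cfsg.Agent.H447.CTabLam

/-!
# S4929, `McL` (helper592): characters on ordered and unordered edges
-/

set_option autoImplicit false
set_option maxRecDepth 100000

namespace Cfsg.Agent.H592.EP.McL

open Cfsg Equiv Cfsg.Agent.H359.CT Cfsg.Agent.H359.CT.McL Cfsg.Agent.H904.McLCent Cfsg.Agent.McLType.X275
  Cfsg.Agent.McLType.Gens Cfsg.Agent.SporadicA.PermTab Cfsg.Agent.Characters.Core Cfsg.Agent.H447.CTab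

/-- ordered edges -/
abbrev X2 : Type := {p : Fin 275 × Fin 275 // adj p.1 p.2}

instance : MulAction ↥K0 X2 where
  smul g p := ⟨(g • p.1.1, g • p.1.2), (hinv g _ _).2 p.2⟩
  one_smul _ := Subtype.ext (Prod.ext rfl rfl)
  mul_smul _ _ _ := Subtype.ext (Prod.ext rfl rfl)

theorem smul_val (g : ↥K0) (p : X2) : (g • p).1 = (g • p.1.1, g • p.1.2) := rfl

/-- the opposite edge -/
def sw (p : X2) : X2 := ⟨(p.1.2, p.1.1), adj_symm _ _ p.2⟩

theorem sw_sw (p : X2) : sw (sw p) = p := rfl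

theorem sw_smul (g : ↥K0) (p : X2) : sw (g • p) = g • sw p := rfl

/-- the matrix of `sw` -/
def Sm : Matrix X2 X2 ℂ := Matrix.of fun x y => if sw x = y then 1 else 0

theorem Sm_sq : Sm * Sm = 1 := by
  ext x y
  rw [Matrix.mul_apply, Finset.sum_eq_single (sw x)]
  · show (if sw x = sw x then (1 : ℂ) else 0) * (if sw (sw x) = y then 1 else 0) = _
    rw [if_pos rfl, one_mul, sw_sw, Matrix.one_apply]
  · intro z _ hz
    show (if sw x = z then (1 : ℂ) else 0) * _ = 0
    rw [if_neg hz.symm, zero_mul]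
  · intro h
    exact absurd (Finset.mem_univ _) h

/-- the idempotent -/
noncomputable def Pm : Matrix X2 X2 ℂ := (2 : ℂ)⁻¹ • (1 + Sm)

theorem Pm_sq : Pm * Pm = Pm := by
  unfold Pm
  rw [smul_mul_smul_comm, add_mul, mul_add, mul_add, one_mul, mul_one, one_mul, Sm_sq]
  have h : (1 : Matrix X2 X2 ℂ) + Sm + (Sm + 1) = (2 : ℂ) • (1 + Sm) := by
    rw [two_smul]
    abel
  rw [h, smul_smul]
  norm_num

theorem Pm_inv (g : ↥K0) (x y : X2) : Pm (g • x) (g • y) = Pm x y := by
  have h1 : (1 : Matrix X2 X2 ℂ) (g • x) (g • y) = (1 : Matrix X2 X2 ℂ) x y := by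
    rw [Matrix.one_apply, Matrix.one_apply]
    simp only [smul_left_cancel_iff]
  have h2 : Sm (g • x) (g • y) = Sm x y := by
    show (if sw (g • x) = g • y then (1 : ℂ) else 0) = if sw x = y then 1 else 0
    rw [sw_smul]
    simp only [smul_left_cancel_iff]
  unfold Pm
  rw [Matrix.smul_apply, Matrix.smul_apply, Matrix.add_apply, Matrix.add_apply, h1, h2]

/-- fixed ordered edges -/
def cE (P : ℕ) : ℕ := sumN (fun x => cond (Nat.beq (lk P x) x)
  (sumN (fun y => cond (Nat.beq (lk P y) y) (bm x y) 0) 275) 0) 275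

/-- inverted edges -/
def cS (P : ℕ) : ℕ := sumN (fun x => cond (Nat.beq (lk P (lk P x)) x) (bm x (lk P x)) 0) 275

/-- moved to a neighbour -/
def cA (P : ℕ) : ℕ := sumN (fun x => bm x (lk P x)) 275

theorem bm_ite (x y : Fin 275) : bm x y = (if adj x y then 1 else 0 : ℕ) := by
  have h := bm_le x y
  by_cases h1 : adj x y
  · rw [if_pos h1]
    exact h1
  · rw [if_neg h1]
    have h2 : bm x y ≠ 1 := h1
    omega

theorem sum_X2 {M : Type*} [AddCommMonoid M] (f : Fin 275 → Fin 275 → M) :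
    ∑ p : X2, f p.1.1 p.1.2 = ∑ x, ∑ y, if adj x y then f x y else 0 := by
  rw [← Fintype.sum_prod_type (f := fun p : Fin 275 × Fin 275 => if adj p.1 p.2 then f p.1 p.2 else 0),
    ← Finset.sum_filter]
  exact (Finset.sum_subtype (Finset.univ.filter fun p : Fin 275 × Fin 275 => adj p.1 p.2) (fun p => by simp)
    (fun p => f p.1 p.2)).symm

section

variable {g : ↥K0} {P : ℕ}

theorem beq_fix (h : ∀ j : Fin 275, ((g : Perm (Fin 275)) j : ℕ) = lk P j) (x : Fin 275) :
    Nat.beq (lk P x) x = decide (g • x = x) := by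
  rw [Bool.eq_iff_iff, Nat.beq_eq, decide_eq_true_iff, ← h x]
  exact ⟨fun e => Fin.ext e, fun e => congrArg Fin.val e⟩

theorem card_fixE (h : ∀ j : Fin 275, ((g : Perm (Fin 275)) j : ℕ) = lk P j) :
    ∑ p : X2, (if p = g • p then 1 else 0 : ℕ) = cE P := by
  have h1 : ∀ p : X2, (if p = g • p then 1 else 0 : ℕ) =
      if (g • p.1.1 = p.1.1 ∧ g • p.1.2 = p.1.2) then 1 else 0 := by
    intro p
    refine if_congr ?_ rfl rfl
    rw [Subtype.ext_iff, smul_val, Prod.ext_iff]
    exact ⟨fun h => ⟨h.1.symm, h.2.symm⟩, fun h => ⟨h.1.symm, h.2.symm⟩⟩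
  rw [Finset.sum_congr rfl fun p _ => h1 p,
    sum_X2 (fun x y => if (g • x = x ∧ g • y = y) then 1 else 0), cE, sumN_fin]
  refine Finset.sum_congr rfl fun x _ => ?_
  rw [beq_fix h x, sumN_fin]
  by_cases hx : g • x = x
  · simp only [hx, decide_true, cond_true, true_and]
    refine Finset.sum_congr rfl fun y _ => ?_
    rw [beq_fix h y, bm_ite]
    by_cases hy : g • y = y <;> simp [hy]
  · simp [hx]

theorem card_swE (h : ∀ j : Fin 275, ((g : Perm (Fin 275)) j : ℕ) = lk P j) :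
    ∑ p : X2, (if sw p = g • p then 1 else 0 : ℕ) = cS P := by
  have h1 : ∀ p : X2, (if sw p = g • p then 1 else 0 : ℕ) =
      if (g • p.1.1 = p.1.2 ∧ g • p.1.2 = p.1.1) then 1 else 0 := by
    intro p
    refine if_congr ?_ rfl rfl
    rw [Subtype.ext_iff, smul_val, Prod.ext_iff]
    exact ⟨fun h => ⟨h.1.symm, h.2.symm⟩, fun h => ⟨h.1.symm, h.2.symm⟩⟩
  rw [Finset.sum_congr rfl fun p _ => h1 p,
    sum_X2 (fun x y => if (g • x = y ∧ g • y = x) then 1 else 0), cS, sumN_fin]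
  refine Finset.sum_congr rfl fun x _ => ?_
  rw [Finset.sum_eq_single (g • x)]
  · have e1 : lk P x = ((g • x : Fin 275) : ℕ) := (h x).symm
    have e2 : lk P (lk P x) = ((g • (g • x) : Fin 275) : ℕ) := by
      rw [e1]
      exact (h (g • x)).symm
    rw [e2, e1, bm_ite]
    have e3 : Nat.beq ((g • (g • x) : Fin 275) : ℕ) x = decide (g • (g • x) = x) := by
      rw [Bool.eq_iff_iff, Nat.beq_eq, decide_eq_true_iff]
      exact ⟨fun e => Fin.ext e, fun e => congrArg Fin.val e⟩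
    rw [e3]
    by_cases hx : g • (g • x) = x <;> simp [hx]
  · intro y _ hy
    have h2 : ¬ (g • x = y ∧ g • y = x) := fun h => hy h.1.symm
    rw [if_neg h2, ite_self]
  · intro h
    exact absurd (Finset.mem_univ _) h

theorem card_adj (h : ∀ j : Fin 275, ((g : Perm (Fin 275)) j : ℕ) = lk P j) :
    (Finset.univ.filter fun x : Fin 275 => adj x (g • x)).card = cA P := by
  rw [Finset.card_filter, cA, sumN_fin]
  refine Finset.sum_congr rfl fun x _ => ?_
  rw [← h x]
  exact (bm_ite x (g • x)).symm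

end

/-- the character of the unordered edges -/
theorem isCharacter_edges : IsCharacter ↥K0 fun g => ∑ p : X2, Pm p (g • p) :=
  isCharacter_of_idem Pm Pm_sq Pm_inv

theorem edges_apply {g : ↥K0} {P : ℕ} (h : ∀ j : Fin 275, ((g : Perm (Fin 275)) j : ℕ) = lk P j) :
    ∑ p : X2, Pm p (g • p) = ((cE P + cS P : ℕ) : ℂ) / 2 := by
  have h1 : ∀ p : X2, Pm p (g • p) = 2⁻¹ * (((if p = g • p then 1 else 0 : ℕ) : ℂ) +
      ((if sw p = g • p then 1 else 0 : ℕ) : ℂ)) := by
    intro p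
    unfold Pm
    rw [Matrix.smul_apply, Matrix.add_apply, Matrix.one_apply, smul_eq_mul]
    push_cast
    rfl
  rw [Finset.sum_congr rfl fun p _ => h1 p, ← Finset.mul_sum, Finset.sum_add_distrib, ← Nat.cast_sum, ← Nat.cast_sum,
    card_fixE h, card_swE h]
  push_cast
  ring

theorem card_fixedBy_X2 {g : ↥K0} {P : ℕ} (h : ∀ j : Fin 275, ((g : Perm (Fin 275)) j : ℕ) = lk P j) :
    Nat.card (MulAction.fixedBy X2 g) = cE P := by
  rw [← card_fixE h, ← Finset.card_filter, Nat.card_eq_fintype_card, Fintype.card_subtype]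
  congr 1
  ext p
  simp only [Finset.mem_filter, Finset.mem_univ, true_and]
  exact ⟨fun h => Eq.symm h, fun h => Eq.symm h⟩

theorem card_fixedBy {g : ↥K0} : Nat.card (MulAction.fixedBy (Fin 275) g) = FP 1 (g : Perm (Fin 275)) := by
  rw [Nat.card_eq_fintype_card, Fintype.card_subtype]
  unfold FP
  congr 1

end Cfsg.Agent.H592.EP.McL
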