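import Cfsg.Agent.H592.EP.Orb

/-!
# S4929, `Fi₂₃` (helper592): the norm of the signed permutation character
-/

set_option autoImplicit false

namespace Cfsg.Agent.H592.EP

open Equiv

section Norm

variable {G Y : Type*} [Group G]

theorem card_fix_prod (α β : Y → Y) :
    Nat.card {w : Y × Y // (α w.1, β w.2) = w} = Nat.card {y // α y = y} * Nat.card {y // β y = y} := by
  rw [← Nat.card_prod]
  refine Nat.card_congr ⟨fun w => (⟨w.1.1, congrArg Prod.fst w.2⟩, ⟨w.1.2, congrArg Prod.snd w.2⟩),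
    fun p => ⟨(p.1.1, p.2.1), Prod.ext p.1.2 p.2.2⟩, fun _ => rfl, fun _ => rfl⟩

theorem norm_sum [Fintype G] [Finite Y] (ρ : G →* Perm Y) (l : Perm Y) (hl : l * l = 1) (hc : ∀ g, Commute l (ρ g))
    {n : ℕ} (y0 : Y) (x : Fin n → Y)
    (hcov : ∀ y y', ∃ i, ∃ a b : ℤˣ, ∃ g, mu l hl a (ρ g y0) = y ∧ mu l hl b (ρ g (x i)) = y')
    (hns : ∃ y y' g, (ρ g y = y ∧ l (ρ g y') = y') ∨ (l (ρ g y) = y ∧ ρ g y' = y')) :
    ∃ m : ℕ, m + 1 ≤ n ∧ ∑ g, ((Nat.card {y // ρ g y = y} : ℤ) - Nat.card {y // l (ρ g y) = y}) ^ 2 =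
      4 * Nat.card G * m := by
  classical
  let κ : ℤˣ × G →* Perm Y := (mu l hl).noncommCoprod ρ (fun a g => mu_comm l hl (hc g) a)
  have hκ : ∀ a g y, κ (a, g) y = mu l hl a (ρ g y) := fun a g y => rfl
  have hll : ∀ y, l (l y) = y := fun y => by
    rw [← Perm.mul_apply, hl]; rfl
  let δ : ℤˣ × G →* Perm (Y × Y) :=
    { toFun := fun c => Equiv.prodCongr (κ c) (κ c)
      map_one' := by
        rw [map_one]
        rfl
      map_mul' := fun c d => by
        rw [map_mul]
        rfl }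
  have hδ : ∀ c w, δ c w = (κ c w.1, κ c w.2) := fun c w => rfl
  let ν : Perm (Y × Y) := Equiv.prodCongr (Equiv.refl Y) l
  have hν' : ∀ w, ν w = (w.1, l w.2) := fun w => rfl
  have hν : ν * ν = 1 := by
    ext w
    · rfl
    · show l (l w.2) = w.2
      exact hll _
  have hlκ : ∀ c, Commute l (κ c) := by
    rintro ⟨a, g⟩
    show Commute l (mu l hl a * ρ g)
    exact (mu_comm l hl (Commute.refl l) a).symm.mul_right (hc g)
  have hcν : ∀ c, Commute ν (δ c) := by
    intro c
    show ν * δ c = δ c * ν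
    ext w
    · rfl
    · show l (κ c w.2) = κ c (l w.2)
      rw [← Perm.mul_apply, (hlκ c).eq, Perm.mul_apply]
  have hA : ∀ w : Y × Y, ∃ i, ∃ a : ℤˣ, ∃ c, mu ν hν a (δ c (y0, x i)) = w := by
    rintro ⟨y, y'⟩
    obtain ⟨i, a, b, g, h1, h2⟩ := hcov y y'
    refine ⟨i, a * b, (a, g), ?_⟩
    rcases Int.units_eq_one_or (a * b) with hab | hab
    · rw [hab, mu_one, Perm.one_apply, hδ]
      have hb : b = a := by
        rcases Int.units_eq_one_or a with rfl | rfl <;> rcases Int.units_eq_one_or b with rfl | rfl <;>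
          first | rfl | exact absurd hab (by decide)
      rw [hb] at h2
      exact Prod.ext h1 h2
    · rw [hab, mu_neg, hδ, hν']
      have hb : b = -a := by
        rcases Int.units_eq_one_or a with rfl | rfl <;> rcases Int.units_eq_one_or b with rfl | rfl <;>
          first | rfl | exact absurd hab (by decide)
      refine Prod.ext h1 ?_
      show l (κ (a, g) (x i)) = y'
      rw [hκ, ← h2, hb]
      rcases Int.units_eq_one_or a with rfl | rfl
      · rw [mu_one, mu_neg]; rfl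
      · rw [neg_neg, mu_one, mu_neg, hll]; rfl
  have hB : ∃ w c, ν (δ c w) = w := by
    obtain ⟨y, y', g, ⟨h1, h2⟩ | ⟨h1, h2⟩⟩ := hns
    · refine ⟨(y, y'), (1, g), ?_⟩
      rw [hν', hδ]
      refine Prod.ext ?_ ?_
      · show κ (1, g) y = y
        rw [hκ, mu_one]; exact h1
      · show l (κ (1, g) y') = y'
        rw [hκ, mu_one]; exact h2
    · refine ⟨(y, y'), (-1, g), ?_⟩
      rw [hν', hδ]
      refine Prod.ext ?_ ?_
      · show κ (-1, g) y = y
        rw [hκ, mu_neg]; exact h1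
      · show l (κ (-1, g) y') = y'
        rw [hκ, mu_neg, hll]; exact h2
  obtain ⟨m, hm, hsum⟩ := orb_split δ ν hν hcν (n := n) (fun i => (y0, x i)) hA hB
  refine ⟨m, hm, ?_⟩
  rw [Fintype.sum_prod_type] at hsum
  have h4 : ∀ F : ℤˣ → ℤ, ∑ a, F a = F 1 + F (-1) := by
    intro F
    have : (Finset.univ : Finset ℤˣ) = {1, -1} := rfl
    rw [this, Finset.sum_insert (by decide), Finset.sum_singleton]
  rw [h4, ← Finset.sum_add_distrib, Nat.card_prod, show Nat.card ℤˣ = 2 by rw [Nat.card_eq_fintype_card]; rfl] at hsum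
  have e1 : ∀ g y, κ (1, g) y = ρ g y := fun g y => by rw [hκ, mu_one]; rfl
  have e2 : ∀ g y, κ (-1, g) y = l (ρ g y) := fun g y => by rw [hκ, mu_neg]
  have f1 : ∀ g, Nat.card {w : Y × Y // δ (1, g) w = w} = Nat.card {y // ρ g y = y} * Nat.card {y // ρ g y = y} := by
    intro g
    refine Eq.trans ?_ (card_fix_prod (fun y => ρ g y) (fun y => ρ g y))
    simp only [hδ, e1]
  have f2 : ∀ g, Nat.card {w : Y × Y // ν (δ (1, g) w) = w} =
      Nat.card {y // ρ g y = y} * Nat.card {y // l (ρ g y) = y} := by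
    intro g
    refine Eq.trans ?_ (card_fix_prod (fun y => ρ g y) (fun y => l (ρ g y)))
    simp only [hδ, e1, hν']
  have f3 : ∀ g, Nat.card {w : Y × Y // δ (-1, g) w = w} =
      Nat.card {y // l (ρ g y) = y} * Nat.card {y // l (ρ g y) = y} := by
    intro g
    refine Eq.trans ?_ (card_fix_prod (fun y => l (ρ g y)) (fun y => l (ρ g y)))
    simp only [hδ, e2]
  have f4 : ∀ g, Nat.card {w : Y × Y // ν (δ (-1, g) w) = w} =
      Nat.card {y // l (ρ g y) = y} * Nat.card {y // ρ g y = y} := by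
    intro g
    refine Eq.trans ?_ (card_fix_prod (fun y => l (ρ g y)) (fun y => ρ g y))
    simp only [hδ, e2, hν', hll]
  calc ∑ g, ((Nat.card {y // ρ g y = y} : ℤ) - Nat.card {y // l (ρ g y) = y}) ^ 2 =
      ∑ g, (((Nat.card {w : Y × Y // δ (1, g) w = w} : ℤ) - Nat.card {w : Y × Y // ν (δ (1, g) w) = w}) +
        ((Nat.card {w : Y × Y // δ (-1, g) w = w} : ℤ) - Nat.card {w : Y × Y // ν (δ (-1, g) w) = w})) := by
        refine Finset.sum_congr rfl fun g _ => ?_
        rw [f1, f2, f3, f4]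
        push_cast
        ring
    _ = 4 * Nat.card G * m := by
        rw [hsum]
        push_cast
        ring

end Norm

end Cfsg.Agent.H592.EP
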