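import Mathlib

/-!
# S4929, `Fi₂₃` (helper592): orbits which split over an index two subgroup
-/

set_option autoImplicit false

namespace Cfsg.Agent.H592.EP

open Equiv

section Orb

variable {B Z : Type*} [Group B]

/-- the set of orbits of `δ` -/
def Orb (δ : B →* Perm Z) : Type _ := Quotient (@MulAction.orbitRel B Z _ (MulAction.compHom Z δ))

/-- the orbit of `w` -/
def Orb.mk (δ : B →* Perm Z) (w : Z) : Orb δ := Quotient.mk _ w

theorem Orb.eq_iff {δ : B →* Perm Z} {w w' : Z} : Orb.mk δ w = Orb.mk δ w' ↔ ∃ c, δ c w' = w := by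
  let _ : MulAction B Z := MulAction.compHom Z δ
  constructor
  · intro h
    obtain ⟨c, hc⟩ := Quotient.exact h
    exact ⟨c, hc⟩
  · rintro ⟨c, hc⟩
    exact Quotient.sound ⟨c, hc⟩

theorem Orb.exists_rep {δ : B →* Perm Z} (O : Orb δ) : ∃ w, Orb.mk δ w = O := Quotient.exists_rep O

instance [Finite Z] (δ : B →* Perm Z) : Finite (Orb δ) :=
  Finite.of_surjective (Orb.mk δ) fun O => O.exists_rep

theorem burnside [Fintype B] [Finite Z] (δ : B →* Perm Z) :
    ∑ c, Nat.card {w // δ c w = w} = Nat.card (Orb δ) * Nat.card B := by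
  classical
  let _ : MulAction B Z := MulAction.compHom Z δ
  have := Fintype.ofFinite Z
  have h := MulAction.sum_card_fixedBy_eq_card_orbits_mul_card_group B Z
  rw [Nat.card_eq_fintype_card (α := B)]
  have h2 : Nat.card (Orb δ) = Fintype.card (Quotient (MulAction.orbitRel B Z)) := by
    rw [← Nat.card_eq_fintype_card]
    rfl
  rw [h2, ← h]
  refine Finset.sum_congr rfl fun c _ => ?_
  rw [← Nat.card_eq_fintype_card]
  rfl

/-- the homomorphism from `{1, -1}` -/
def mu (ν : Perm Z) (h : ν * ν = 1) : ℤˣ →* Perm Z where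
  toFun u := if u = 1 then 1 else ν
  map_one' := if_pos rfl
  map_mul' a b := by
    rcases Int.units_eq_one_or a with rfl | rfl <;> rcases Int.units_eq_one_or b with rfl | rfl <;> simp [h]

theorem mu_one (ν : Perm Z) (h : ν * ν = 1) : mu ν h 1 = 1 := map_one _

theorem mu_neg (ν : Perm Z) (h : ν * ν = 1) : mu ν h (-1) = ν := by
  show (if (-1 : ℤˣ) = 1 then (1 : Perm Z) else ν) = ν
  rw [if_neg (by decide)]

theorem mu_comm (ν : Perm Z) (h : ν * ν = 1) {x : Perm Z} (hx : Commute ν x) (a : ℤˣ) : Commute (mu ν h a) x := by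
  rcases Int.units_eq_one_or a with rfl | rfl
  · rw [mu_one]; exact Commute.one_left _
  · rw [mu_neg]; exact hx

/-- **The number of split orbits.** -/
theorem orb_split [Fintype B] [Finite Z] (δ : B →* Perm Z) (ν : Perm Z) (hν : ν * ν = 1)
    (hc : ∀ c, Commute ν (δ c)) {n : ℕ} (z : Fin n → Z) (hcov : ∀ w, ∃ i, ∃ a : ℤˣ, ∃ c, mu ν hν a (δ c (z i)) = w)
    (hns : ∃ w c, ν (δ c w) = w) :
    ∃ m : ℕ, m + 1 ≤ n ∧
      ∑ c, ((Nat.card {w // δ c w = w} : ℤ) - Nat.card {w // ν (δ c w) = w}) = 2 * Nat.card B * m := by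
  classical
  let D : ℤˣ × B →* Perm Z := (mu ν hν).noncommCoprod δ (fun a c => mu_comm ν hν (hc c) a)
  have hD : ∀ a c w, D (a, c) w = mu ν hν a (δ c w) := fun a c w => rfl
  have h1 := burnside δ
  have h2 := burnside D
  have hpos : 0 < Nat.card B := Nat.card_pos
  -- the orbits of `D`
  have hn3 : Nat.card (Orb D) ≤ n := by
    have h3 : Function.Surjective (fun i : Fin n => Orb.mk D (z i)) := by
      intro O
      obtain ⟨w, rfl⟩ := O.exists_rep
      obtain ⟨i, a, c, h⟩ := hcov w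
      exact ⟨i, (Orb.eq_iff.2 ⟨(a, c), h⟩).symm⟩
    have h4 := Nat.card_le_card_of_surjective _ h3
    rwa [Nat.card_fin] at h4
  have hνν : ∀ w, ν (ν w) = w := fun w => by
    rw [← Perm.mul_apply, hν]; rfl
  -- `|Orb δ| < 2 |Orb D|`
  let rep : Orb D → Z := fun O => O.exists_rep.choose
  have hrep : ∀ O, Orb.mk D (rep O) = O := fun O => O.exists_rep.choose_spec
  have hlt : Nat.card (Orb δ) < 2 * Nat.card (Orb D) := by
    let f : Orb D × ℤˣ → Orb δ := fun q => Orb.mk δ (mu ν hν q.2 (rep q.1))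
    have hs : Function.Surjective f := by
      intro O
      obtain ⟨w, rfl⟩ := O.exists_rep
      obtain ⟨⟨a, c⟩, h⟩ := Orb.eq_iff.1 (hrep (Orb.mk D w)).symm
      refine ⟨(Orb.mk D w, a), (Orb.eq_iff.2 ⟨c, ?_⟩).symm⟩
      rw [hD] at h
      have h5 := (mu_comm ν hν (hc c) a).eq
      rw [← Perm.mul_apply, ← h5, Perm.mul_apply]
      exact h
    have hi : ¬ Function.Injective f := by
      intro hi
      obtain ⟨w, c, hw⟩ := hns
      obtain ⟨⟨a, c1⟩, h⟩ := Orb.eq_iff.1 (hrep (Orb.mk D w))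
      rw [hD] at h
      set w1 := rep (Orb.mk D w) with hw1
      have h6 : f (Orb.mk D w, 1) = f (Orb.mk D w, -1) := by
        show Orb.mk δ (mu ν hν 1 w1) = Orb.mk δ (mu ν hν (-1) w1)
        rw [mu_one, mu_neg, Perm.one_apply]
        refine (Orb.eq_iff.2 ⟨c1 * c * c1⁻¹, ?_⟩).symm
        -- `δ (c1 c c1⁻¹) w1 = ν w1`
        have e1 : δ c w = ν w := by
          conv_rhs => rw [← hw]
          rw [hνν]
        have e2 : δ (c1 * c * c1⁻¹) w1 = mu ν hν a (δ c1 (δ c w)) := by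
          rw [← h, ← Perm.mul_apply, ← (mu_comm ν hν (hc (c1 * c * c1⁻¹)) a).eq, Perm.mul_apply,
            ← Perm.mul_apply (δ (c1 * c * c1⁻¹)), ← map_mul, show c1 * c * c1⁻¹ * c1 = c1 * c by group, map_mul,
            Perm.mul_apply (δ c1)]
        rw [e2, e1]
        have e3 : ∀ u, δ c1 (ν u) = ν (δ c1 u) := fun u => by
          rw [← Perm.mul_apply, ← (hc c1).eq, Perm.mul_apply]
        have e4 : ∀ u, mu ν hν a (ν u) = ν (mu ν hν a u) := fun u => by
          rw [← Perm.mul_apply, (mu_comm ν hν (Commute.refl ν) a).eq, Perm.mul_apply]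
        rw [e3, e4, h]
      have h7 : (1 : ℤˣ) = -1 := congrArg Prod.snd (hi h6)
      exact absurd h7 (by decide)
    by_contra hcon
    push Not at hcon
    refine hi (hs.bijective_of_nat_card_le ?_).1
    rw [Nat.card_prod, show Nat.card ℤˣ = 2 by rw [Nat.card_eq_fintype_card]; rfl]
    omega
  -- `|Orb D| ≤ |Orb δ|`
  have hle : Nat.card (Orb D) ≤ Nat.card (Orb δ) := by
    have hs : ∀ w w', Orb.mk δ w = Orb.mk δ w' → Orb.mk D w = Orb.mk D w' := by
      intro w w' h
      obtain ⟨c, hc⟩ := Orb.eq_iff.1 h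
      refine Orb.eq_iff.2 ⟨(1, c), ?_⟩
      rw [hD, mu_one]
      exact hc
    let g : Orb δ → Orb D := fun O => Orb.mk D O.exists_rep.choose
    refine Nat.card_le_card_of_surjective g fun O => ?_
    obtain ⟨w, rfl⟩ := O.exists_rep
    exact ⟨Orb.mk δ w, hs _ _ (Orb.mk δ w).exists_rep.choose_spec⟩
  refine ⟨Nat.card (Orb δ) - Nat.card (Orb D), by omega, ?_⟩
  -- the sums
  have h3 : ∑ q : ℤˣ × B, Nat.card {w // D q w = w} =
      ∑ c, (Nat.card {w // δ c w = w} + Nat.card {w // ν (δ c w) = w}) := by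
    rw [Fintype.sum_prod_type]
    have h4 : ∀ F : ℤˣ → ℕ, ∑ a, F a = F 1 + F (-1) := by
      intro F
      have : (Finset.univ : Finset ℤˣ) = {1, -1} := rfl
      rw [this, Finset.sum_insert (by decide), Finset.sum_singleton]
    rw [h4, Finset.sum_add_distrib]
    congr 1
  rw [h3, Finset.sum_add_distrib, h1] at h2
  rw [Nat.card_prod, show Nat.card ℤˣ = 2 by rw [Nat.card_eq_fintype_card]; rfl] at h2
  rw [Finset.sum_sub_distrib, ← Nat.cast_sum, ← Nat.cast_sum, h1]
  have h5 : (∑ c, Nat.card {w // ν (δ c w) = w} : ℕ) = Nat.card (Orb D) * (2 * Nat.card B) - Nat.card (Orb δ) * Nat.card B := by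
    omega
  have h6 : Nat.card (Orb δ) * Nat.card B ≤ Nat.card (Orb D) * (2 * Nat.card B) := by
    rw [show Nat.card (Orb D) * (2 * Nat.card B) = 2 * Nat.card (Orb D) * Nat.card B by ring]
    exact Nat.mul_le_mul_right _ hlt.le
  rw [h5, Nat.cast_sub h6, Nat.cast_sub hle]
  push_cast
  ring

end Orb

end Cfsg.Agent.H592.EP
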